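import Groth.Agent.L19.Pinch.Ring
import Groth.Agent.L19.LocFreeDescent
import Groth.Agent.L18.LocFreeTilde
import Groth.Agent.L29.DCoh.TildeAlg
import Groth.Agent.L00.PullStalk
import Groth.Agent.L21.Mod.Locality
import Groth.Agent.L20.ResDescent
import Mathlib.AlgebraicGeometry.Morphisms.ClosedImmersion

/-!
# Modules on a pinched scheme
-/

set_option autoImplicit false
set_option linter.style.haveILetI false
set_option backward.isDefEq.respectTransparency false
set_option backward.isDefEq.respectTransparency.types false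

universe u

open CategoryTheory CategoryTheory.Limits AlgebraicGeometry TensorProduct

noncomputable section

namespace Groth.L19.Pinch

variable {X Y : Scheme.{u}}

/-- `tilde` reflects zero objects. -/
theorem subsingleton_of_isZero_tilde {R : CommRingCat.{u}} (N : ModuleCat.{u} R) (h : IsZero (tilde N)) :
    Subsingleton N := by
  refine ModuleCat.subsingleton_of_isZero ?_
  rw [IsZero.iff_id_eq_zero]
  apply (tilde.functor R).map_injective
  exact h.eq_of_src _ _

theorem isZero_tilde {R : CommRingCat.{u}} (N : ModuleCat.{u} R) [Subsingleton N] : IsZero (tilde N) :=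
  (tilde.functor R).map_isZero (ModuleCat.isZero_of_subsingleton N)

/-- Flatness passes to pullbacks. -/
theorem isFlat_pullback (f : X ⟶ Y) {M : Y.Modules} (h : FlatMod.IsFlat M) :
    FlatMod.IsFlat ((Scheme.Modules.pullback f).obj M) := fun x =>
  Groth.L00.TorAmp.flat_of_iso ((Groth.L00.PullStalk.stalkIso f x).app M)
    (Groth.L00.TorAmp.flat_extendScalars (Groth.L00.PullStalk.φ f x) ((Groth.L00.Stk.F Y (f x)).obj M) (h (f x)))

/-- Flatness of a module from its restriction along an open immersion. -/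
theorem isFlatAt_of_restrict (j : X ⟶ Y) [IsOpenImmersion j] {M : Y.Modules}
    (h : FlatMod.IsFlat (M.restrict j)) (x : X) : FlatMod.IsFlatAt M (j x) := by
  have h0 : FlatMod.IsFlat ((Scheme.Modules.pullback j).obj M) := fun y =>
    Groth.L00.TorAmp.flat_of_iso
      ((Groth.L00.Stk.F X y).mapIso ((Scheme.Modules.restrictFunctorIsoPullback j).app M).symm) (h y)
  have h' := Groth.L00.TorAmp.flat_of_iso ((Groth.L00.PullStalk.stalkIso j x).app M).symm (h0 x)
  letI := (Groth.L00.PullStalk.φ j x).toAlgebra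
  haveI : Module.FaithfullyFlat (Y.presheaf.stalk (j x)) (X.presheaf.stalk x) := by
    haveI : Module.Flat (Y.presheaf.stalk (j x)) (X.presheaf.stalk x) := AlgebraicGeometry.Flat.stalkMap j x
    haveI : IsLocalHom (algebraMap (Y.presheaf.stalk (j x)) (X.presheaf.stalk x)) :=
      inferInstanceAs (IsLocalHom (j.stalkMap x).hom)
    exact Module.FaithfullyFlat.of_flat_of_isLocalHom
  haveI : Module.Flat (X.presheaf.stalk x)
      (TensorProduct (Y.presheaf.stalk (j x)) (X.presheaf.stalk x) ((Groth.L00.Stk.F Y (j x)).obj M)) := h'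
  show Module.Flat (Y.presheaf.stalk (j x)) ((Groth.L00.Stk.F Y (j x)).obj M)
  exact Module.Flat.of_flat_tensorProduct (Y.presheaf.stalk (j x)) _ (X.presheaf.stalk x)

theorem flat_of_chart {M : Y.Modules} (h : FlatMod.IsFlat M) {R : CommRingCat.{u}} (j : Spec R ⟶ Y)
    [IsOpenImmersion j] (N : ModuleCat.{u} R) (e : M.restrict j ≅ tilde N) : Module.Flat R N :=
  Groth.L29.DC.TildeAlg.flat_of_isFlat_tilde N (Groth.L00.KFlat.isFlat_of_iso
    (((Scheme.Modules.restrictFunctorIsoPullback j).app M).symm ≪≫ e) (isFlat_pullback j h))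

theorem finLocFree_of_chart {M : Y.Modules} (h : FlatMod.IsFinLocFree M) {R : CommRingCat.{u}}
    (j : Spec R ⟶ Y) [IsOpenImmersion j] (N : ModuleCat.{u} R) (e : M.restrict j ≅ tilde N) :
    Module.Finite R N ∧ Module.Projective R N :=
  (Groth.L18.LFP.isFinLocFree_tilde_iff N).mp (Groth.L29.LocFree.of_iso
    (((Scheme.Modules.restrictFunctorIsoPullback j).app M).symm ≪≫ e) (Groth.L29.LocFree.pullback j h))

variable {X' Y' : Scheme.{u}} (f : X ⟶ Y) (u : Y' ⟶ Y) [IsAffineHom f] [IsClosedImmersion u]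
  (hM : ∀ V ∈ Y.affineOpens,
      RingHom.ker (f.app V).hom ⊓ RingHom.ker (u.app V).hom = ⊥ ∧
      ∀ a ∈ Ideal.map (f.app V).hom (RingHom.ker (u.app V).hom),
        ∃ i ∈ RingHom.ker (u.app V).hom, (f.app V).hom i = a)
  (G : Y.Modules) [G.IsQuasicoherent]

include hM in
/-- Affine charts of a pinching square with the charts of both pullbacks. -/
theorem exists_charts (y : Y) :
    ∃ (R B : CommRingCat.{u}) (I : Ideal R) (_ : Algebra R B) (j : Spec R ⟶ Y) (_ : IsOpenImmersion j)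
      (jB : Spec B ⟶ X) (_ : IsOpenImmersion jB) (jS : Spec (CommRingCat.of (R ⧸ I)) ⟶ Y')
      (_ : IsOpenImmersion jS) (N : ModuleCat.{u} R),
      y ∈ j.opensRange ∧ Cond B I ∧ Nonempty (G.restrict j ≅ tilde N) ∧
      Nonempty (((Scheme.Modules.pullback f).obj G).restrict jB ≅ tilde (ModuleCat.of B (B ⊗[R] N))) ∧
      Nonempty (((Scheme.Modules.pullback u).obj G).restrict jS ≅
        tilde (ModuleCat.of (CommRingCat.of (R ⧸ I)) ((R ⧸ I) ⊗[R] N))) := by
  obtain ⟨_, ⟨V, hV, rfl⟩, hyV, -⟩ :=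
    Y.isBasis_affineOpens.exists_subset_of_mem_open (Set.mem_univ y) isOpen_univ
  replace hV : IsAffineOpen V := hV
  obtain ⟨N, ⟨e⟩⟩ := Groth.L00.Local.exists_tilde_iso_restrict hV.fromSpec G
  obtain ⟨h1, h2⟩ := hM V hV
  have hf : IsAffineOpen (f ⁻¹ᵁ V) := hV.preimage f
  have hu : IsAffineOpen (u ⁻¹ᵁ V) := hV.preimage u
  let φf : Γ(Y, V) ⟶ Γ(X, f ⁻¹ᵁ V) := f.app V
  letI : Algebra Γ(Y, V) Γ(X, f ⁻¹ᵁ V) := φf.hom.toAlgebra
  set I : Ideal Γ(Y, V) := RingHom.ker (u.app V).hom with hI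
  have hus : Function.Surjective (u.app V).hom := u.app_surjective V hV
  let i : CommRingCat.of (Γ(Y, V) ⧸ I) ≅ Γ(Y', u ⁻¹ᵁ V) :=
    (RingHom.quotientKerEquivOfSurjective hus).toCommRingCatIso
  let φu : Γ(Y, V) ⟶ CommRingCat.of (Γ(Y, V) ⧸ I) := CommRingCat.ofHom (Ideal.Quotient.mk I)
  have hφu : φu ≫ i.hom = u.app V := CommRingCat.hom_ext (RingHom.ext fun r => rfl)
  have hwf : hf.fromSpec ≫ f = Spec.map φf ≫ hV.fromSpec := by
    have h := hV.SpecMap_appLE_fromSpec f hf le_rfl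
    rw [show f.appLE V (f ⁻¹ᵁ V) le_rfl = φf from (Scheme.Hom.app_eq_appLE f).symm] at h
    exact h.symm
  have hwu : (Spec.map i.inv ≫ hu.fromSpec) ≫ u = Spec.map φu ≫ hV.fromSpec := by
    have h := hV.SpecMap_appLE_fromSpec u hu le_rfl
    rw [show u.appLE V (u ⁻¹ᵁ V) le_rfl = φu ≫ i.hom from
      (hφu.trans (Scheme.Hom.app_eq_appLE u)).symm] at h
    rw [Category.assoc, ← h, ← Category.assoc, ← Spec.map_comp, Category.assoc, i.hom_inv_id,
      Category.comp_id]
  obtain ⟨eB⟩ := PullChart.nonempty_chart_pullback f G φf hV.fromSpec hf.fromSpec hwf N e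
  obtain ⟨eS⟩ := PullChart.nonempty_chart_pullback u G φu hV.fromSpec (Spec.map i.inv ≫ hu.fromSpec) hwu N e
  obtain ⟨lB⟩ := Groth.L18.TildeF.extendScalars_equiv (R := Γ(Y, V)) (S := Γ(X, f ⁻¹ᵁ V)) N
  obtain ⟨lS⟩ := Groth.L18.TildeF.extendScalars_equiv (R := Γ(Y, V)) (S := Γ(Y, V) ⧸ I) N
  refine ⟨Γ(Y, V), Γ(X, f ⁻¹ᵁ V), I, inferInstance, hV.fromSpec, inferInstance, hf.fromSpec, inferInstance,
    Spec.map i.inv ≫ hu.fromSpec, inferInstance, N, by rw [hV.opensRange_fromSpec]; exact hyV, ⟨?_, ?_⟩, ⟨e⟩,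
    ⟨eB ≪≫ (tilde.functor _).mapIso lB.toModuleIso⟩, ⟨eS ≪≫ (tilde.functor _).mapIso lS.toModuleIso⟩⟩
  · intro a ha h0
    exact (h1.le ⟨h0, ha⟩ :)
  · intro a ha b
    exact h2 _ (Ideal.mul_mem_left _ b (Ideal.mem_map_of_mem _ ha))

include hM in
theorem isZero_of_pullbacks (hu : IsZero ((Scheme.Modules.pullback u).obj G))
    (hf : IsZero ((Scheme.Modules.pullback f).obj G)) : IsZero G := by
  choose R B I hA j hj jB hjB jS hjS N hy hc he hB hS using exists_charts f u hM G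
  refine Groth.L21.Mod.isZero_of_restrict (j := j) (hj := fun y => ?_) G fun y => ?_
  · obtain ⟨z, hz⟩ := hy y
    exact ⟨y, z, hz⟩
  · obtain ⟨e⟩ := he y
    obtain ⟨eB⟩ := hB y
    obtain ⟨eS⟩ := hS y
    letI := hA y
    haveI : Subsingleton ((R y ⧸ I y) ⊗[R y] N y) := subsingleton_of_isZero_tilde
      (ModuleCat.of (CommRingCat.of (R y ⧸ I y)) ((R y ⧸ I y) ⊗[R y] N y))
        (((Scheme.Modules.restrictFunctor (jS y)).map_isZero hu).of_iso eS.symm)
    haveI : Subsingleton (B y ⊗[R y] N y) :=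
      subsingleton_of_isZero_tilde (ModuleCat.of (B y) (B y ⊗[R y] N y))
        (((Scheme.Modules.restrictFunctor (jB y)).map_isZero hf).of_iso eB.symm)
    haveI := (hc y).subsingleton (N y)
    exact (isZero_tilde (N y)).of_iso e

include hM in
theorem isFlat_iff :
    FlatMod.IsFlat G ↔
      FlatMod.IsFlat ((Scheme.Modules.pullback u).obj G) ∧ FlatMod.IsFlat ((Scheme.Modules.pullback f).obj G) := by
  refine ⟨fun h => ⟨isFlat_pullback u h, isFlat_pullback f h⟩, fun ⟨hu, hf⟩ y => ?_⟩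
  obtain ⟨R, B, I, _, j, _, jB, _, jS, _, N, ⟨z, rfl⟩, hc, ⟨e⟩, ⟨eB⟩, ⟨eS⟩⟩ := exists_charts f u hM G y
  haveI : Module.Flat B (B ⊗[R] N) := flat_of_chart hf jB _ eB
  haveI : Module.Flat (R ⧸ I) ((R ⧸ I) ⊗[R] N) := flat_of_chart hu jS _ eS
  haveI := hc.flat N
  exact isFlatAt_of_restrict j (Groth.L00.KFlat.isFlat_of_iso e.symm (Groth.L29.DC.ModRes.isFlat_tilde N)) z

include hM in
theorem isFinLocFree_iff :
    FlatMod.IsFinLocFree G ↔
      FlatMod.IsFinLocFree ((Scheme.Modules.pullback u).obj G) ∧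
        FlatMod.IsFinLocFree ((Scheme.Modules.pullback f).obj G) := by
  refine ⟨fun h => ⟨Groth.L29.LocFree.pullback u h, Groth.L29.LocFree.pullback f h⟩,
    fun ⟨hu, hf⟩ => PullChart.isFinLocFree_of_projective_charts G fun y => ?_⟩
  obtain ⟨R, B, I, _, j, hj, jB, _, jS, _, N, hy, hc, he, ⟨eB⟩, ⟨eS⟩⟩ := exists_charts f u hM G y
  obtain ⟨hB1, hB2⟩ := finLocFree_of_chart hf jB _ eB
  obtain ⟨hS1, hS2⟩ := finLocFree_of_chart hu jS _ eS
  haveI : Module.Finite B (B ⊗[R] N) := hB1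
  haveI : Module.Projective B (B ⊗[R] N) := hB2
  haveI : Module.Finite (R ⧸ I) ((R ⧸ I) ⊗[R] N) := hS1
  haveI : Module.Projective (R ⧸ I) ((R ⧸ I) ⊗[R] N) := hS2
  obtain ⟨h1, h2⟩ := hc.projective N
  exact ⟨R, j, hj, N, hy, h1, h2, he⟩

include hM in
theorem isFiniteType_iff :
    SheafOfModules.IsFiniteType G ↔
      SheafOfModules.IsFiniteType ((Scheme.Modules.pullback u).obj G) ∧
        SheafOfModules.IsFiniteType ((Scheme.Modules.pullback f).obj G) := by
  refine ⟨fun h => ⟨Groth.L20.ResDescent.isFT_pullback u G h, Groth.L20.ResDescent.isFT_pullback f G h⟩,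
    fun ⟨hu, hf⟩ => ?_⟩
  refine (Groth.L16.CohKernel.isCoh_of_tilde_charts G fun y => ?_).2
  obtain ⟨R, B, I, _, j, hj, jB, _, jS, _, N, hy, hc, he, ⟨eB⟩, ⟨eS⟩⟩ := exists_charts f u hM G y
  haveI : Coh.IsQCoh G := ‹_›
  haveI : Coh.IsQCoh ((Scheme.Modules.pullback f).obj G) := Groth.L16.AffineBC.isQCoh_pullback f G
  haveI : Coh.IsQCoh ((Scheme.Modules.pullback u).obj G) := Groth.L16.AffineBC.isQCoh_pullback u G
  haveI : Module.Finite B (B ⊗[R] N) := Groth.L16.CohKernel.finite_of_tilde_iso _ hf jB _ eB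
  haveI : Module.Finite (R ⧸ I) ((R ⧸ I) ⊗[R] N) := Groth.L16.CohKernel.finite_of_tilde_iso _ hu jS _ eS
  exact ⟨R, j, hj, N, hy, hc.finite N, he⟩

end Groth.L19.Pinch
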