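import Mathlib.RingTheory.AdjoinRoot
import Mathlib.Algebra.MvPolynomial.Derivation
import Mathlib.Algebra.MvPolynomial.Division
import Mathlib.RingTheory.Derivation.Basic
import Mathlib.Algebra.Polynomial.Expand
import Mathlib.RingTheory.Ideal.Colon
import Mathlib.RingTheory.Polynomial.Basic
import Mathlib.RingTheory.MvPolynomial.Basic
import Mathlib.Tactic.LinearCombination
import Mathlib.Tactic.Ring

/-!
# The pinch point `u^2 = v^2 w` and its normalisation
-/

set_option autoImplicit false
set_option linter.style.haveILetI false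

universe u

open MvPolynomial

namespace Groth.L19.PinchPoint

/-- `f` agrees with its substitution modulo the differences of the variables. -/
theorem sub_aeval_mem_span {R : Type u} [CommRing R] {σ : Type} (g : σ → MvPolynomial σ R)
    (s : Set (MvPolynomial σ R)) (h : ∀ i, X i - g i ∈ Ideal.span s) (f : MvPolynomial σ R) :
    f - aeval g f ∈ Ideal.span s := by
  induction f using MvPolynomial.induction_on with
  | C r => simp
  | add p q hp hq =>
    rw [map_add, add_sub_add_comm]
    exact add_mem hp hq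
  | mul_X p i hp =>
    rw [map_mul, aeval_X,
      show p * X i - aeval g p * g i = (p - aeval g p) * X i + aeval g p * (X i - g i) by ring]
    exact add_mem (Ideal.mul_mem_right _ _ hp) (Ideal.mul_mem_left _ _ (h i))

section Chart

variable {B : Type u} [CommRing B] (b : B)

local notation "B'" => AdjoinRoot (Polynomial.X ^ 2 - Polynomial.C b)

theorem exists_repr (z : B') :
    ∃ c d : B, z = algebraMap B B' c + algebraMap B B' d * AdjoinRoot.root _ := by
  obtain ⟨p, rfl⟩ := AdjoinRoot.mk_surjective z
  induction p using Polynomial.induction_on with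
  | C a => exact ⟨a, 0, by rw [map_zero, zero_mul, add_zero, AdjoinRoot.mk_C]; rfl⟩
  | add p q hp hq =>
    obtain ⟨c, d, h⟩ := hp
    obtain ⟨c', d', h'⟩ := hq
    exact ⟨c + c', d + d', by rw [map_add, h, h', map_add, map_add]; ring⟩
  | monomial n a h =>
    obtain ⟨c, d, h⟩ := h
    refine ⟨d * b, c, ?_⟩
    have hr : AdjoinRoot.root (Polynomial.X ^ 2 - Polynomial.C b) ^ 2 = algebraMap B B' b := by
      have := AdjoinRoot.eval₂_root (Polynomial.X ^ 2 - Polynomial.C b)
      rw [Polynomial.eval₂_sub, Polynomial.eval₂_X_pow, Polynomial.eval₂_C, sub_eq_zero] at this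
      exact this
    rw [show Polynomial.C a * Polynomial.X ^ (n + 1) = Polynomial.C a * Polynomial.X ^ n * Polynomial.X from
      by rw [pow_succ, mul_assoc], map_mul, h, AdjoinRoot.mk_X, map_mul, ← hr]
    ring

theorem eq_zero_of_repr {c d : B}
    (h : algebraMap B B' c + algebraMap B B' d * AdjoinRoot.root _ = 0) : c = 0 ∧ d = 0 := by
  rcases subsingleton_or_nontrivial B with hB | hB
  · exact ⟨Subsingleton.elim _ _, Subsingleton.elim _ _⟩
  have h' : AdjoinRoot.mk (Polynomial.X ^ 2 - Polynomial.C b)
      (Polynomial.C d * Polynomial.X + Polynomial.C c) = 0 := by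
    rw [map_add, map_mul, AdjoinRoot.mk_C, AdjoinRoot.mk_C, AdjoinRoot.mk_X, add_comm]
    exact h
  rw [AdjoinRoot.mk_eq_zero] at h'
  have h0 : Polynomial.C d * Polynomial.X + Polynomial.C c = 0 := by
    by_contra hne
    refine Polynomial.Monic.not_dvd_of_degree_lt (Polynomial.monic_X_pow_sub_C b two_ne_zero) hne ?_ h'
    rw [Polynomial.degree_X_pow_sub_C two_pos]
    exact Polynomial.degree_linear_le.trans_lt (by norm_num)
  exact ⟨by simpa using congrArg (fun p => Polynomial.coeff p 0) h0,
    by simpa using congrArg (fun p => Polynomial.coeff p 1) h0⟩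

/-- The chart map `u ↦ zt, v ↦ t`. -/
noncomputable abbrev Ψ : MvPolynomial (Fin 2) B →ₐ[B] Polynomial B' :=
  MvPolynomial.aeval
    ![Polynomial.C (AdjoinRoot.root (Polynomial.X ^ 2 - Polynomial.C b)) * Polynomial.X, Polynomial.X]

theorem Ψ_aeval (P : Polynomial B) : Ψ b (Polynomial.aeval (X 1) P) = P.map (algebraMap B B') := by
  rw [← Polynomial.aeval_algHom_apply]
  show Polynomial.aeval (Ψ b (X 1)) P = _
  rw [show Ψ b (X 1) = Polynomial.X by simp [Ψ]]
  induction P using Polynomial.induction_on with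
  | C a => simp [Polynomial.algebraMap_apply]
  | add p q hp hq => rw [map_add, hp, hq, Polynomial.map_add]
  | monomial n a h => simp [Polynomial.algebraMap_apply]

theorem exists_normal_form (G : MvPolynomial (Fin 2) B) :
    ∃ P Q : Polynomial B, G - (Polynomial.aeval (X 1) P + X 0 * Polynomial.aeval (X 1) Q) ∈
      Ideal.span {X 0 ^ 2 - C b * X 1 ^ 2} := by
  induction G using MvPolynomial.induction_on with
  | C a => exact ⟨Polynomial.C a, 0, by simp⟩
  | add p q hp hq =>
    obtain ⟨P, Q, h⟩ := hp
    obtain ⟨P', Q', h'⟩ := hq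
    exact ⟨P + P', Q + Q', by convert add_mem h h' using 1; simp only [map_add]; ring⟩
  | mul_X p i hp =>
    obtain ⟨P, Q, h⟩ := hp
    fin_cases i
    · refine ⟨Q * Polynomial.C b * Polynomial.X ^ 2, P, ?_⟩
      convert add_mem (Ideal.mul_mem_right (X 0) _ h)
        (Ideal.mul_mem_right (Polynomial.aeval (X 1 : MvPolynomial (Fin 2) B) Q) _
          (Ideal.subset_span (Set.mem_singleton (X 0 ^ 2 - C b * X 1 ^ 2)))) using 1
      simp only [map_mul, map_pow, Polynomial.aeval_X, Polynomial.aeval_C, MvPolynomial.algebraMap_eq,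
        Fin.zero_eta]
      ring
    · refine ⟨P * Polynomial.X, Q * Polynomial.X, ?_⟩
      convert Ideal.mul_mem_right (X 1) _ h using 1
      simp only [map_mul, Polynomial.aeval_X, Fin.mk_one]
      ring

theorem ker_and_range :
    RingHom.ker (Ψ b).toRingHom = Ideal.span {X 0 ^ 2 - C b * X 1 ^ 2} ∧
      ∀ G : Polynomial B', (∃ c : B, G.coeff 0 = algebraMap B B' c) → G ∈ (Ψ b).range := by
  have hz : Ψ b (X 0 ^ 2 - C b * X 1 ^ 2) = 0 := by
    have hr : AdjoinRoot.root (Polynomial.X ^ 2 - Polynomial.C b) ^ 2 = algebraMap B B' b := by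
      have := AdjoinRoot.eval₂_root (Polynomial.X ^ 2 - Polynomial.C b)
      rw [Polynomial.eval₂_sub, Polynomial.eval₂_X_pow, Polynomial.eval₂_C, sub_eq_zero] at this
      exact this
    simp only [Ψ, map_sub, map_pow, map_mul, aeval_X, aeval_C, Matrix.cons_val_zero, Matrix.cons_val_one,
      Polynomial.algebraMap_apply, mul_pow, ← Polynomial.C_pow, hr, sub_self]
  have h0 : Ψ b (X 0) = Polynomial.C (AdjoinRoot.root _) * Polynomial.X := by simp [Ψ]
  have hnf : ∀ P Q : Polynomial B, Ψ b (Polynomial.aeval (X 1) P + X 0 * Polynomial.aeval (X 1) Q) =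
      P.map (algebraMap B B') + Polynomial.C (AdjoinRoot.root _) * Polynomial.X * Q.map (algebraMap B B') :=
    fun P Q => by rw [map_add, map_mul, h0, Ψ_aeval, Ψ_aeval]
  constructor
  · refine le_antisymm (fun G hG => ?_) (Ideal.span_le.mpr (Set.singleton_subset_iff.mpr hz))
    obtain ⟨P, Q, h⟩ := exists_normal_form b G
    obtain ⟨r, hr⟩ := Ideal.mem_span_singleton'.mp h
    have h1 : P.map (algebraMap B B') +
        Polynomial.C (AdjoinRoot.root _) * Polynomial.X * Q.map (algebraMap B B') = 0 := by
      rw [← hnf]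
      have h2 := congrArg (Ψ b) hr
      rw [map_mul, hz, mul_zero, map_sub, show Ψ b G = 0 from hG, zero_sub, eq_comm, neg_eq_zero] at h2
      exact h2
    have hP : P = 0 ∧ Q = 0 := by
      have hk : ∀ k, P.coeff (k + 1) = 0 ∧ Q.coeff k = 0 := fun k => by
        have := congrArg (fun p => Polynomial.coeff p (k + 1)) h1
        simp only [Polynomial.coeff_add, Polynomial.coeff_map, mul_assoc, Polynomial.coeff_C_mul,
          Polynomial.coeff_X_mul, Polynomial.coeff_zero] at this
        rw [mul_comm (AdjoinRoot.root _)] at this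
        exact eq_zero_of_repr b this
      refine ⟨Polynomial.ext fun k => ?_, Polynomial.ext fun k => (hk k).2⟩
      cases k with
      | zero =>
        have := congrArg (fun p => Polynomial.coeff p 0) h1
        simp only [Polynomial.coeff_add, Polynomial.coeff_map, mul_assoc, Polynomial.coeff_C_mul,
          Polynomial.coeff_X_mul_zero, Polynomial.coeff_zero, mul_zero, add_zero] at this
        exact (eq_zero_of_repr b (d := 0) (by rw [map_zero, zero_mul, add_zero]; exact this)).1
      | succ k => exact (hk k).1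
    rw [hP.1, hP.2] at h
    simpa using h
  · intro G hG
    induction hn : G.natDegree using Nat.strong_induction_on generalizing G with
    | _ n ih =>
    obtain ⟨c₀, hc₀⟩ := hG
    suffices ∀ G : Polynomial B', Polynomial.X * G ∈ (Ψ b).range by
      rw [← Polynomial.X_mul_divX_add G, hc₀]
      exact add_mem (this _) ⟨C c₀, by simp [Ψ, Polynomial.algebraMap_apply]⟩
    intro G
    induction G using Polynomial.induction_on' with
    | add p q hp hq => rw [mul_add]; exact add_mem hp hq
    | monomial k z =>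
      obtain ⟨c, d, rfl⟩ := exists_repr b z
      refine ⟨Polynomial.aeval (X 1) (Polynomial.monomial (k + 1) c) +
        X 0 * Polynomial.aeval (X 1) (Polynomial.monomial k d), ?_⟩
      show Ψ b _ = _
      rw [hnf, Polynomial.map_monomial, Polynomial.map_monomial]
      simp only [← Polynomial.C_mul_X_pow_eq_monomial, map_add, map_mul]
      ring

end Chart

section Field

variable {K : Type u} [Field K]

local notation "S" => MvPolynomial (Fin 2) K

/-- The coordinate ring of the pinch point. -/
noncomputable abbrev R : Subalgebra K S :=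
  Algebra.adjoin K {(X 0 : S) ^ 2, X 0 * X 1, X 1}

theorem deriv_eq_on_adjoin {A : Type u} [CommRing A] [Algebra K A] (s : Set A) (D : Derivation K A A)
    (δ : Derivation K (Algebra.adjoin K s) A)
    (h : ∀ (x : A) (hx : x ∈ s), D x = δ ⟨x, Algebra.subset_adjoin hx⟩) (r : Algebra.adjoin K s) :
    D (r : A) = δ r := by
  obtain ⟨r, hr⟩ := r
  induction hr using Algebra.adjoin_induction with
  | mem x hx => exact h x hx
  | algebraMap c => exact (D.map_algebraMap c).trans (δ.map_algebraMap c).symm
  | add x y hx hy hx' hy' =>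
    rw [show (⟨x + y, add_mem hx hy⟩ : Algebra.adjoin K s) = ⟨x, hx⟩ + ⟨y, hy⟩ from rfl, map_add, ← hx', ← hy',
      ← map_add]
    rfl
  | mul x y hx hy hx' hy' =>
    rw [show (⟨x * y, mul_mem hx hy⟩ : Algebra.adjoin K s) = ⟨x, hx⟩ * ⟨y, hy⟩ from rfl, δ.leibniz,
      ← hx', ← hy']
    exact D.leibniz x y

theorem dvd_of_mul_X1 {p : S} (h : (X 0 : S) ∣ X 1 * p) : (X 0 : S) ∣ p := by
  refine ((MvPolynomial.X_prime (R := K) (i := (0 : Fin 2))).dvd_or_dvd h).resolve_left ?_
  rintro ⟨q, hq⟩
  have := congrArg (aeval (![0, 1] : Fin 2 → K)) hq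
  simp at this

theorem dvd_of_mul_X0 {p : S} (h : (X 1 : S) ∣ X 0 * p) : (X 1 : S) ∣ p := by
  refine ((MvPolynomial.X_prime (R := K) (i := (1 : Fin 2))).dvd_or_dvd h).resolve_left ?_
  rintro ⟨q, hq⟩
  have := congrArg (aeval (![1, 0] : Fin 2 → K)) hq
  simp at this

theorem two_ne [NeZero (2 : K)] : (2 : S) ≠ 0 := by
  rw [show (2 : S) = C 2 from (map_ofNat C 2).symm, Ne, C_eq_zero]
  exact two_ne_zero

theorem dvd_of_dvd_two_mul [NeZero (2 : K)] {q p : S} (h : q ∣ 2 * p) : q ∣ p := by
  obtain ⟨r, hr⟩ := h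
  refine ⟨C 2⁻¹ * r, ?_⟩
  have h2 : (C 2⁻¹ : S) * 2 = 1 := by
    rw [show (2 : S) = C 2 from (map_ofNat C 2).symm, ← C_mul, inv_mul_cancel₀ two_ne_zero, C_1]
  linear_combination (C 2⁻¹ : S) * hr - p * h2

/-- Derivations on the pinch point extend uniquely to the normalisation. -/
theorem existsUnique_extension [NeZero (2 : K)] (δ : Derivation K (R (K := K)) S) :
    ∃! D : Derivation K S S, ∀ r : R (K := K), D (r : S) = δ r := by
  let gA : R (K := K) := ⟨(X 0 : S) ^ 2, Algebra.subset_adjoin (by simp)⟩
  let gC : R (K := K) := ⟨(X 0 : S) * X 1, Algebra.subset_adjoin (by simp)⟩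
  let gY : R (K := K) := ⟨(X 1 : S), Algebra.subset_adjoin (by simp)⟩
  have hrel : gC * gC = gA * (gY * gY) := Subtype.ext (by simp [gA, gC, gY]; ring)
  have h1 := congrArg δ hrel
  simp only [Derivation.leibniz, Algebra.smul_def] at h1
  change (X 0 * X 1) * δ gC + (X 0 * X 1) * δ gC =
    (X 0 : S) ^ 2 * (X 1 * δ gY + X 1 * δ gY) + (X 1 * X 1) * δ gA at h1
  have h2 : X 1 * δ gA = (X 0 : S) * (2 * δ gC - 2 * X 0 * δ gY) := by
    apply mul_left_cancel₀ (MvPolynomial.X_ne_zero (R := K) (1 : Fin 2))
    linear_combination -h1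
  obtain ⟨a', ha'⟩ := dvd_of_mul_X1 ⟨_, h2⟩
  obtain ⟨a, ha⟩ : ∃ a : S, δ gA = X 0 * (2 * a) := by
    refine ⟨C 2⁻¹ * a', ?_⟩
    have h2' : (2 : S) * C 2⁻¹ = 1 := by
      rw [show (2 : S) = C 2 from (map_ofNat C 2).symm, ← C_mul, mul_inv_cancel₀ two_ne_zero, C_1]
    rw [ha', ← mul_assoc (2 : S), h2', one_mul]
  have hC : δ gC = X 1 * a + X 0 * δ gY := by
    apply mul_left_cancel₀ (two_ne (K := K))
    apply mul_left_cancel₀ (MvPolynomial.X_ne_zero (R := K) (0 : Fin 2))
    linear_combination -h2 + (X 1 : S) * ha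
  let D : Derivation K S S := mkDerivation K ![a, δ gY]
  have hD0 : D (X 0) = a := by simp [D, mkDerivation_X]
  have hD1 : D (X 1) = δ gY := by simp [D, mkDerivation_X]
  refine ⟨D, fun r => ?_, fun D' hD' => ?_⟩
  · refine deriv_eq_on_adjoin _ D δ ?_ r
    rintro x (rfl | rfl | rfl)
    · show D ((X 0 : S) ^ 2) = δ gA
      rw [sq, D.leibniz, hD0, ha, smul_eq_mul]
      ring
    · show D ((X 0 : S) * X 1) = δ gC
      rw [D.leibniz, hD0, hD1, hC, smul_eq_mul, smul_eq_mul]
      ring
    · exact hD1
  · refine MvPolynomial.derivation_ext (Fin.forall_fin_two.mpr ⟨?_, ?_⟩)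
    · have h3 : D' ((X 0 : S) ^ 2) = δ gA := hD' gA
      rw [sq, D'.leibniz, smul_eq_mul, ha] at h3
      rw [hD0]
      apply mul_left_cancel₀ (two_ne (K := K))
      apply mul_left_cancel₀ (MvPolynomial.X_ne_zero (R := K) (0 : Fin 2))
      linear_combination h3
    · rw [hD1]
      exact hD' gY

theorem mem_R_iff (f : S) :
    f ∈ R (K := K) ↔ ∃ (s : S) (p : Polynomial K), f = X 1 * s + Polynomial.aeval ((X 0 : S) ^ 2) p := by
  constructor
  · intro hf
    induction hf using Algebra.adjoin_induction with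
    | mem x hx =>
      rcases hx with rfl | rfl | rfl
      · exact ⟨0, Polynomial.X, by simp⟩
      · exact ⟨X 0, 0, by simp [mul_comm]⟩
      · exact ⟨1, 0, by simp⟩
    | algebraMap c => exact ⟨0, Polynomial.C c, by simp⟩
    | add x y _ _ hx hy =>
      obtain ⟨s, p, rfl⟩ := hx
      obtain ⟨t, q, rfl⟩ := hy
      exact ⟨s + t, p + q, by rw [map_add]; ring⟩
    | mul x y _ _ hx hy =>
      obtain ⟨s, p, rfl⟩ := hx
      obtain ⟨t, q, rfl⟩ := hy
      exact ⟨X 1 * s * t + s * Polynomial.aeval ((X 0 : S) ^ 2) q + t * Polynomial.aeval ((X 0 : S) ^ 2) p,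
        p * q, by rw [map_mul]; ring⟩
  · rintro ⟨s, p, rfl⟩
    have hA : (X 0 : S) ^ 2 ∈ R (K := K) := Algebra.subset_adjoin (by simp)
    have hC : (X 0 : S) * X 1 ∈ R (K := K) := Algebra.subset_adjoin (by simp)
    have hY : (X 1 : S) ∈ R (K := K) := Algebra.subset_adjoin (by simp)
    refine add_mem ?_ ?_
    · have key : ∀ s : S, X 1 * s ∈ R (K := K) ∧ X 0 * (X 1 * s) ∈ R (K := K) := by
        intro s
        induction s using MvPolynomial.induction_on with
        | C c => exact ⟨mul_mem hY ((R (K := K)).algebraMap_mem c),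
            by rw [← mul_assoc]; exact mul_mem hC ((R (K := K)).algebraMap_mem c)⟩
        | add p q hp hq => exact ⟨by rw [mul_add]; exact add_mem hp.1 hq.1,
            by rw [mul_add, mul_add]; exact add_mem hp.2 hq.2⟩
        | mul_X p i hp =>
          fin_cases i
          · refine ⟨?_, ?_⟩
            · convert hp.2 using 1
              simp only [Fin.zero_eta]
              ring
            · convert mul_mem hA hp.1 using 1
              simp only [Fin.zero_eta]
              ring
          · refine ⟨?_, ?_⟩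
            · convert mul_mem hY hp.1 using 1
              simp only [Fin.mk_one]
              ring
            · convert mul_mem hY hp.2 using 1
              simp only [Fin.mk_one]
              ring
      exact (key s).1
    · induction p using Polynomial.induction_on with
      | C c => rw [Polynomial.aeval_C]; exact (R (K := K)).algebraMap_mem c
      | add p q hp hq => rw [map_add]; exact add_mem hp hq
      | monomial n c h =>
        rw [map_mul, map_pow, Polynomial.aeval_X, Polynomial.aeval_C]
        exact mul_mem ((R (K := K)).algebraMap_mem c) (pow_mem hA _)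

/-- Setting `y = 0`. -/
noncomputable abbrev ε : S →ₐ[K] Polynomial K := aeval ![Polynomial.X, 0]

theorem ε_aeval_sq (p : Polynomial K) :
    ε (Polynomial.aeval ((X 0 : S) ^ 2) p) = Polynomial.expand K 2 p := by
  rw [← Polynomial.aeval_algHom_apply]
  show Polynomial.aeval (ε ((X 0 : S) ^ 2)) p = _
  rw [show ε ((X 0 : S) ^ 2) = (Polynomial.X : Polynomial K) ^ 2 by simp [ε], Polynomial.expand_eq_comp_X_pow,
    Polynomial.comp_eq_aeval]

/-- The derivations of the normalisation preserving the pinch point. -/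
theorem maps_iff [NeZero (2 : K)] (D : Derivation K S S) :
    (∀ r ∈ R (K := K), D r ∈ R (K := K)) ↔
      (D (X 1) ∈ Ideal.span {(X 1 : S)} ∧
        ∃ (s : S) (p : Polynomial K), D (X 0) = X 1 * s + X 0 * Polynomial.aeval ((X 0 : S) ^ 2) p) := by
  have h2 : (2 : S) = algebraMap K S 2 := (map_ofNat _ 2).symm
  constructor
  · intro h
    have hA := h _ (Algebra.subset_adjoin (by simp) : (X 0 : S) ^ 2 ∈ R (K := K))
    have hC := h _ (Algebra.subset_adjoin (by simp) : (X 0 : S) * X 1 ∈ R (K := K))
    have hY := h _ (Algebra.subset_adjoin (by simp) : (X 1 : S) ∈ R (K := K))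
    rw [sq, D.leibniz, smul_eq_mul, mem_R_iff] at hA
    rw [D.leibniz, smul_eq_mul, smul_eq_mul, mem_R_iff] at hC
    rw [mem_R_iff] at hY
    obtain ⟨sY, pY, hY⟩ := hY
    obtain ⟨sC, pC, hC⟩ := hC
    obtain ⟨sA, pA, hA⟩ := hA
    constructor
    · have e : Polynomial.X * Polynomial.expand K 2 pY = Polynomial.expand K 2 pC := by
        have := congrArg (ε (K := K)) hC
        simp only [map_add, map_mul, ε_aeval_sq, hY] at this
        simpa [ε] using this
      have hp : pY = 0 := Polynomial.ext fun k => by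
        have := congrArg (fun p => Polynomial.coeff p (2 * k + 1)) e
        simp only [Polynomial.coeff_X_mul, Polynomial.coeff_expand (by norm_num : 0 < 2)] at this
        simpa [Nat.mul_div_cancel_left k two_pos, show ¬(2 ∣ 2 * k + 1) by omega] using this
      rw [hY, hp, map_zero, add_zero]
      exact Ideal.mem_span_singleton.mpr (dvd_mul_right _ _)
    · have hp0 : pA.coeff 0 = 0 := by
        have := congrArg (fun q => Polynomial.coeff (ε (K := K) q) 0) hA
        simp only [map_add, map_mul, ε_aeval_sq, Polynomial.coeff_add] at this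
        simpa [ε, Polynomial.mul_coeff_zero, Polynomial.coeff_expand (by norm_num : 0 < 2), eq_comm] using this
      obtain ⟨q, rfl⟩ := Polynomial.X_dvd_iff.mpr hp0
      rw [map_mul, Polynomial.aeval_X] at hA
      obtain ⟨t, ht⟩ : (X 1 : S) ∣ 2 * D (X 0) - X 0 * Polynomial.aeval ((X 0 : S) ^ 2) q :=
        dvd_of_mul_X0 ⟨sA, by linear_combination hA⟩
      refine ⟨C 2⁻¹ * t, Polynomial.C 2⁻¹ * q, ?_⟩
      rw [map_mul, Polynomial.aeval_C, MvPolynomial.algebraMap_eq]
      have h2' : (C 2⁻¹ : S) * 2 = 1 := by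
        rw [show (2 : S) = C 2 from (map_ofNat C 2).symm, ← C_mul, inv_mul_cancel₀ two_ne_zero, C_1]
      linear_combination (C 2⁻¹ : S) * ht - D (X 0) * h2'
  · rintro ⟨hy, s, p, hx⟩ r hr
    obtain ⟨a, ha⟩ := Ideal.mem_span_singleton.mp hy
    induction hr using Algebra.adjoin_induction with
    | mem z hz =>
      rcases hz with rfl | rfl | rfl
      · rw [sq, D.leibniz, smul_eq_mul, hx, mem_R_iff]
        refine ⟨2 * X 0 * s, Polynomial.C 2 * Polynomial.X * p, ?_⟩
        rw [map_mul, map_mul, Polynomial.aeval_X, Polynomial.aeval_C, ← h2]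
        ring
      · rw [D.leibniz, smul_eq_mul, smul_eq_mul, mem_R_iff]
        exact ⟨X 0 * a + D (X 0), 0, by rw [map_zero, ha]; ring⟩
      · rw [mem_R_iff]
        exact ⟨a, 0, by rw [map_zero, ha, add_zero]⟩
    | algebraMap c => rw [D.map_algebraMap]; exact zero_mem _
    | add x y _ _ hx' hy' => rw [map_add]; exact add_mem hx' hy'
    | mul x y hxm hym hx' hy' =>
      rw [D.leibniz, smul_eq_mul, smul_eq_mul]
      exact add_mem (mul_mem hxm hy') (mul_mem hym hx')

variable (n : ℕ)

local notation "T" => MvPolynomial (Fin (n + 3)) K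

/-- The Jacobian ideal of `u^2 = v^2 w`. -/
noncomputable abbrev Jac : Ideal T :=
  Ideal.span {(X 0 : T) ^ 2 - X 1 ^ 2 * X 2, 2 * X 0, -(2 * X 1 * X 2), -(X 1 ^ 2)}

theorem jac_colon_and_sup [NeZero (2 : K)] :
    Ideal.span {(X 0 : T), X 1} = Jac n ⊔ Ideal.span {(X 1 : T)} ∧
      (Jac (K := K) n).colon (Ideal.span {(X 1 : T)}) = Ideal.span {(X 0 : T), X 1, X 2} := by
  have h2 : (C 2⁻¹ : T) * 2 = 1 := by
    rw [show (2 : T) = C 2 from (map_ofNat C 2).symm, ← C_mul, inv_mul_cancel₀ two_ne_zero, C_1]
  have hJ : Jac (K := K) n = Ideal.span {(X 0 : T), X 1 * X 2, X 1 ^ 2} := by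
    refine le_antisymm (Ideal.span_le.mpr ?_) (Ideal.span_le.mpr ?_)
    · simp only [Set.insert_subset_iff, Set.singleton_subset_iff, SetLike.mem_coe]
      refine ⟨sub_mem (Ideal.pow_mem_of_mem _ (Ideal.subset_span (by simp)) 2 two_pos)
          (Ideal.mul_mem_right _ _ (Ideal.subset_span (by simp))),
        Ideal.mul_mem_left _ _ (Ideal.subset_span (by simp)),
        neg_mem (by rw [mul_assoc]; exact Ideal.mul_mem_left _ _ (Ideal.subset_span (by simp))),
        neg_mem (Ideal.subset_span (by simp))⟩
    · simp only [Set.insert_subset_iff, Set.singleton_subset_iff, SetLike.mem_coe]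
      refine ⟨?_, ?_, ?_⟩
      · rw [show (X 0 : T) = C 2⁻¹ * (2 * X 0) by linear_combination -(X 0 : T) * h2]
        exact Ideal.mul_mem_left _ _ (Ideal.subset_span (by simp))
      · rw [show (X 1 : T) * X 2 = -C 2⁻¹ * (-(2 * X 1 * X 2)) by
          linear_combination -(X 1 : T) * X 2 * h2]
        exact Ideal.mul_mem_left _ _ (Ideal.subset_span (by simp))
      · exact neg_mem_iff.mp (Ideal.subset_span (by simp))
  constructor
  · rw [hJ, ← Ideal.span_union]
    refine le_antisymm (Ideal.span_le.mpr ?_) (Ideal.span_le.mpr ?_)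
    · simp only [Set.insert_subset_iff, Set.singleton_subset_iff, SetLike.mem_coe]
      exact ⟨Ideal.subset_span (by simp), Ideal.subset_span (by simp)⟩
    · simp only [Set.union_subset_iff, Set.insert_subset_iff, Set.singleton_subset_iff, SetLike.mem_coe]
      exact ⟨⟨Ideal.subset_span (by simp), Ideal.mul_mem_right _ _ (Ideal.subset_span (by simp)),
        Ideal.pow_mem_of_mem _ (Ideal.subset_span (by simp)) 2 two_pos⟩, Ideal.subset_span (by simp)⟩
  · ext f
    rw [hJ, Submodule.mem_colon]
    constructor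
    · intro h
      obtain ⟨a, y, hy, he⟩ := Ideal.mem_span_insert.mp
        (h _ (Ideal.mem_span_singleton_self _) : f • (X 1 : T) ∈ Ideal.span {(X 0 : T), X 1 * X 2, X 1 ^ 2})
      obtain ⟨b, z, hz, rfl⟩ := Ideal.mem_span_insert.mp hy
      obtain ⟨c, rfl⟩ := Ideal.mem_span_singleton'.mp hz
      rw [smul_eq_mul] at he
      let g : Fin (n + 3) → T := fun i => if i = 0 then 0 else X i
      let k : Fin (n + 3) → T := fun i => if i = 0 ∨ i = 1 ∨ i = 2 then 0 else X i
      have hg : aeval g f = aeval g b * X 2 + aeval g c * X 1 := by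
        have := congrArg (aeval g) he
        simp only [map_add, map_mul, map_pow, aeval_X, g,
          show (1 : Fin (n + 3)) ≠ 0 by simp,
          show (2 : Fin (n + 3)) ≠ 0 by simp [Fin.ext_iff, Nat.mod_eq_of_lt (show 2 < n + 3 by omega)],
          if_false, if_true] at this
        apply mul_right_cancel₀ (MvPolynomial.X_ne_zero (R := K) (1 : Fin (n + 3)))
        linear_combination this
      have hk : aeval k f = 0 := by
        have hc : (aeval k).comp (aeval g) = (aeval k : T →ₐ[K] T) := by
          refine MvPolynomial.algHom_ext fun i => ?_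
          simp only [AlgHom.comp_apply, aeval_X, g]
          split_ifs with hi
          · simp [k, hi]
          · simp
        rw [← hc, AlgHom.comp_apply, hg]
        simp [k]
      have hkm := sub_aeval_mem_span k {(X 0 : T), X 1, X 2} (fun i => by
        simp only [k]
        split_ifs with hi
        · rw [sub_zero]; rcases hi with rfl | rfl | rfl <;> exact Ideal.subset_span (by simp)
        · rw [sub_self]; exact zero_mem _) f
      rwa [hk, sub_zero] at hkm
    · intro hf p hp
      obtain ⟨c, rfl⟩ := Ideal.mem_span_singleton'.mp hp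
      rw [smul_eq_mul, mul_left_comm, mul_comm f]
      refine Ideal.mul_mem_left _ _ ?_
      have : Ideal.span {(X 0 : T), X 1, X 2} ≤
          Submodule.comap (LinearMap.mulLeft T (X 1 : T)) (Ideal.span {(X 0 : T), X 1 * X 2, X 1 ^ 2}) := by
        refine Ideal.span_le.mpr ?_
        simp only [Set.insert_subset_iff, Set.singleton_subset_iff, SetLike.mem_coe, Submodule.mem_comap,
          LinearMap.mulLeft_apply]
        exact ⟨Ideal.mul_mem_left _ _ (Ideal.subset_span (by simp)),
          by rw [← sq]; exact Ideal.subset_span (by simp), Ideal.subset_span (by simp)⟩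
      exact this hf

end Field

end Groth.L19.PinchPoint
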