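import Mathlib.RingTheory.Flat.Basic
import Mathlib.RingTheory.Flat.Tensor
import Mathlib.RingTheory.Flat.Stability
import Mathlib.RingTheory.Flat.EquationalCriterion
import Mathlib.RingTheory.Flat.Equalizer
import Mathlib.RingTheory.Finiteness.Projective
import Mathlib.Algebra.Module.FinitePresentation
import Mathlib.Algebra.Module.Torsion.Basic
import Mathlib.LinearAlgebra.TensorProduct.Tower
import Mathlib.LinearAlgebra.TensorProduct.Quotient
import Mathlib.LinearAlgebra.TensorProduct.RightExactness
import Mathlib.RingTheory.Ideal.Quotient.Operations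

/-!
# Modules over a pinched ring

`Cond I B`: `I ∩ ker (R → B) = 0` and the image of `I` in `B` is an ideal. A module is zero, flat, of
finite type, finite projective as soon as its restrictions to `R ⧸ I` and to `B` are.
-/

set_option autoImplicit false
set_option linter.style.haveILetI false

universe u

open TensorProduct Function

namespace Groth.L19.Pinch

variable {R : Type u} [CommRing R]

/-- Base change of an injective map of algebra modules stays injective. -/
theorem injective_rTensor_algebra (S : Type u) [CommRing S] [Algebra R S]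
    (M : Type u) [AddCommGroup M] [Module R M] [Module.Flat S (S ⊗[R] M)]
    {A C : Type u} [AddCommGroup A] [AddCommGroup C] [Module R A] [Module R C] [Module S A] [Module S C]
    [IsScalarTower R S A] [IsScalarTower R S C] (g : A →ₗ[S] C) (hg : Injective g) :
    Injective ((g.restrictScalars R).rTensor M) := by
  let eA := TensorProduct.AlgebraTensorModule.cancelBaseChange R S S A M
  let eC := TensorProduct.AlgebraTensorModule.cancelBaseChange R S S C M
  have hc : ∀ w, (g.restrictScalars R).rTensor M (eA w) = eC (g.rTensor (S ⊗[R] M) w) := by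
    intro w
    induction w using TensorProduct.induction_on with
    | zero => simp
    | tmul x y =>
      induction y using TensorProduct.induction_on with
      | zero => simp
      | tmul s m => simp [eA, eC]
      | add x y hx hy => simp only [TensorProduct.tmul_add, map_add, hx, hy]
    | add x y hx hy => simp only [map_add, hx, hy]
  intro a b hab
  obtain ⟨a, rfl⟩ := eA.surjective a
  obtain ⟨b, rfl⟩ := eA.surjective b
  rw [hc, hc] at hab
  rw [Module.Flat.rTensor_preserves_injective_linearMap (M := S ⊗[R] M) g hg (eC.injective hab)]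

/-- Injective maps of modules killed by `I` stay injective. -/
theorem injective_rTensor_killed (I : Ideal R) (M : Type u) [AddCommGroup M] [Module R M]
    [Module.Flat (R ⧸ I) ((R ⧸ I) ⊗[R] M)] {A C : Type u} [AddCommGroup A] [AddCommGroup C] [Module R A]
    [Module R C] (hA : ∀ i ∈ I, ∀ a : A, i • a = 0) (hC : ∀ i ∈ I, ∀ c : C, i • c = 0) (g : A →ₗ[R] C)
    (hg : Injective g) : Injective (g.rTensor M) := by
  have tA : Module.IsTorsionBySet R A (I : Set R) := fun a i => hA i.1 i.2 a
  have tC : Module.IsTorsionBySet R C (I : Set R) := fun c i => hC i.1 i.2 c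
  letI := tA.module
  letI := tC.module
  haveI : IsScalarTower R (R ⧸ I) A := tA.isScalarTower
  haveI : IsScalarTower R (R ⧸ I) C := tC.isScalarTower
  let g' : A →ₗ[R ⧸ I] C :=
    { toFun := g
      map_add' := g.map_add
      map_smul' := fun s a => by
        obtain ⟨r, rfl⟩ := Ideal.Quotient.mk_surjective s
        exact g.map_smul r a }
  exact injective_rTensor_algebra (R ⧸ I) M g' hg

variable (B : Type u) [CommRing B] [Algebra R B]

/-- Maps onto ideals of an algebra stay injective. -/
theorem injective_rTensor_ideal (M : Type u) [AddCommGroup M] [Module R M] [Module.Flat B (B ⊗[R] M)]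
    {A : Type u} [AddCommGroup A] [Module R A] (ι : A →ₗ[R] B) (hι : Injective ι)
    (hstab : ∀ b a, ∃ a', ι a' = b * ι a) : Injective (ι.rTensor M) := by
  let L : Ideal B :=
    { carrier := Set.range ι
      add_mem' := by rintro _ _ ⟨a, rfl⟩ ⟨b, rfl⟩; exact ⟨a + b, map_add _ _ _⟩
      zero_mem' := ⟨0, map_zero _⟩
      smul_mem' := by rintro b _ ⟨a, rfl⟩; exact hstab b a }
  let f : A →ₗ[R] L :=
    { toFun := fun a => ⟨ι a, a, rfl⟩
      map_add' := fun a b => Subtype.ext (map_add _ _ _)
      map_smul' := fun r a => Subtype.ext (map_smul _ _ _) }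
  let e : A ≃ₗ[R] L := LinearEquiv.ofBijective f
    ⟨fun a b h => hι (congrArg Subtype.val h), fun ⟨_, a, rfl⟩ => ⟨a, rfl⟩⟩
  have h1 : Injective (((L.subtype : L →ₗ[B] B).restrictScalars R).rTensor M) :=
    injective_rTensor_algebra B M L.subtype L.injective_subtype
  have h2 : ι = ((L.subtype : L →ₗ[B] B).restrictScalars R) ∘ₗ e.toLinearMap :=
    LinearMap.ext fun _ => rfl
  rw [h2, LinearMap.rTensor_comp]
  exact h1.comp (e.rTensor M).injective

/-- `R` is a pinching of `R ⧸ I` and `B`: `I ∩ ker (R → B) = 0` and the image of `I` is an ideal. -/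
structure Cond (I : Ideal R) : Prop where
  inj : ∀ i ∈ I, algebraMap R B i = 0 → i = 0
  stab : ∀ i ∈ I, ∀ b : B, ∃ i' ∈ I, algebraMap R B i' = b * algebraMap R B i

variable {B} {I : Ideal R}

theorem Cond.inj' (h : Cond B I) {a a' : R} (ha : a ∈ I) (ha' : a' ∈ I)
    (he : algebraMap R B a = algebraMap R B a') : a = a' :=
  sub_eq_zero.mp (h.inj _ (sub_mem ha ha') (by rw [map_sub, he, sub_self]))

theorem Cond.stab_mul (h : Cond B I) (J : Ideal R) :
    ∀ x ∈ I * J, ∀ b : B, ∃ x' ∈ I * J, algebraMap R B x' = b * algebraMap R B x := by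
  intro x hx
  refine Submodule.mul_induction_on hx (fun i hi j hj b => ?_) fun x y hx hy b => ?_
  · obtain ⟨i', hi', he⟩ := h.stab i hi b
    exact ⟨i' * j, Ideal.mul_mem_mul hi' hj, by rw [map_mul, map_mul, he, mul_assoc]⟩
  · obtain ⟨x', hx', he⟩ := hx b
    obtain ⟨y', hy', he'⟩ := hy b
    exact ⟨x' + y', add_mem hx' hy', by rw [map_add, he, he', map_add, mul_add]⟩

variable (M : Type u) [AddCommGroup M] [Module R M]

/-- A module vanishing on both sides vanishes. -/
theorem Cond.subsingleton (h : Cond B I) [Subsingleton ((R ⧸ I) ⊗[R] M)] [Subsingleton (B ⊗[R] M)] :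
    Subsingleton M := by
  have hIM : ∀ i ∈ I, ∀ m : M, i • m = 0 := by
    intro i hi m
    choose c hc hcφ using h.stab i hi
    let Φ : B →ₗ[R] M →ₗ[R] M :=
      LinearMap.mk₂ R (fun b m => c b • m)
        (fun b b' m => by
          rw [show c (b + b') = c b + c b' from h.inj' (hc _) (add_mem (hc _) (hc _))
            (by rw [map_add, hcφ, hcφ, hcφ, add_mul]), add_smul])
        (fun r b m => by
          rw [show c (r • b) = r * c b from h.inj' (hc _) (I.mul_mem_left _ (hc _))
            (by rw [map_mul, hcφ, hcφ, Algebra.smul_def, mul_assoc]), mul_smul])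
        (fun b m m' => smul_add _ _ _) (fun r b m => smul_comm _ _ _)
    have h1 : TensorProduct.lift Φ ((1 : B) ⊗ₜ[R] m) = i • m := by
      rw [TensorProduct.lift.tmul]
      show c 1 • m = i • m
      rw [show c 1 = i from h.inj' (hc _) hi (by rw [hcφ, one_mul])]
    rw [← h1, Subsingleton.elim ((1 : B) ⊗ₜ[R] m) 0, map_zero]
  have hbot : I • (⊤ : Submodule R M) = ⊥ := by
    rw [eq_bot_iff, Submodule.smul_le]
    intro i hi m _
    rw [Submodule.mem_bot]
    exact hIM i hi m
  have : Subsingleton (M ⧸ I • (⊤ : Submodule R M)) :=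
    (TensorProduct.quotTensorEquivQuotSMul M I).symm.toEquiv.subsingleton
  refine ⟨fun a b => ?_⟩
  have := Subsingleton.elim (Submodule.Quotient.mk (p := I • (⊤ : Submodule R M)) a) (Submodule.Quotient.mk b)
  rwa [Submodule.Quotient.eq, hbot, Submodule.mem_bot, sub_eq_zero] at this

/-- Flatness is detected on both sides. -/
theorem Cond.flat (h : Cond B I) [Module.Flat (R ⧸ I) ((R ⧸ I) ⊗[R] M)] [Module.Flat B (B ⊗[R] M)] :
    Module.Flat R M := by
  -- `I ⊗ M → B ⊗ M` is injective
  have hI : Injective ((Algebra.linearMap R B ∘ₗ I.subtype).rTensor M) :=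
    injective_rTensor_ideal B M _ (fun a b he => Subtype.ext (h.inj' a.2 b.2 he)) fun b a => by
      obtain ⟨a', ha', he⟩ := h.stab a.1 a.2 b
      exact ⟨⟨a', ha'⟩, he⟩
  have hIR : Injective (I.subtype.rTensor M) := by
    intro a b hab
    apply hI
    rw [LinearMap.rTensor_comp, LinearMap.comp_apply, LinearMap.comp_apply, hab]
  -- ideals containing `I`
  have htop : ∀ J : Ideal R, I ≤ J → Injective (J.subtype.rTensor M) := by
    intro J hIJ
    rw [injective_iff_map_eq_zero]
    intro z hz
    let q : J →ₗ[R] J.map (Ideal.Quotient.mk I) :=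
      { toFun := fun x => ⟨Ideal.Quotient.mk I x, Ideal.mem_map_of_mem _ x.2⟩
        map_add' := fun x y => Subtype.ext (map_add _ _ _)
        map_smul' := fun r x => Subtype.ext (by
          show Ideal.Quotient.mk I (r * x.1) = r • Ideal.Quotient.mk I x.1
          rw [Algebra.smul_def, map_mul]
          rfl) }
    have hq : Surjective q := fun ⟨y, hy⟩ => by
      obtain ⟨x, hx, rfl⟩ := (Ideal.mem_map_iff_of_surjective _ Ideal.Quotient.mk_surjective).mp hy
      exact ⟨⟨x, hx⟩, rfl⟩
    have hex : Function.Exact (Submodule.inclusion hIJ) q := by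
      intro x
      constructor
      · intro hx
        have : (x : R) ∈ I := Ideal.Quotient.eq_zero_iff_mem.mp (congrArg Subtype.val hx)
        exact ⟨⟨x, this⟩, rfl⟩
      · rintro ⟨y, rfl⟩
        exact Subtype.ext (Ideal.Quotient.eq_zero_iff_mem.mpr y.2)
    have hinj := injective_rTensor_algebra (R := R) (R ⧸ I) M
      (A := ↥(J.map (Ideal.Quotient.mk I))) (C := R ⧸ I) (J.map (Ideal.Quotient.mk I)).subtype
      (Submodule.injective_subtype _)
    have hqz : q.rTensor M z = 0 := by
      apply hinj
      rw [map_zero, ← LinearMap.rTensor_comp_apply,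
        show ((J.map (Ideal.Quotient.mk I)).subtype.restrictScalars R) ∘ₗ q =
          (Algebra.linearMap R (R ⧸ I)) ∘ₗ J.subtype from LinearMap.ext fun _ => rfl,
        LinearMap.rTensor_comp_apply, hz, map_zero]
    obtain ⟨w, rfl⟩ := (rTensor_exact M hex hq z).mp hqz
    rw [← LinearMap.rTensor_comp_apply, show J.subtype ∘ₗ Submodule.inclusion hIJ = I.subtype from rfl] at hz
    rw [hIR (hz.trans (map_zero _).symm), map_zero]
  rw [Module.Flat.iff_rTensor_injective']
  intro J
  rw [injective_iff_map_eq_zero]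
  intro z hz
  -- reduce to `(J ⊓ I) ⊗ M → I ⊗ M`
  let p : J × I →ₗ[R] ↥(J ⊔ I) :=
    (Submodule.inclusion le_sup_left).coprod (Submodule.inclusion le_sup_right)
  let d : ↥(J ⊓ I) →ₗ[R] J × I :=
    (Submodule.inclusion inf_le_left).prod (-(Submodule.inclusion inf_le_right))
  have hp : Surjective p := fun ⟨x, hx⟩ => by
    obtain ⟨a, ha, b, hb, rfl⟩ := Submodule.mem_sup.mp hx
    exact ⟨(⟨a, ha⟩, ⟨b, hb⟩), Subtype.ext rfl⟩
  have hdp : Function.Exact d p := by
    intro x
    constructor
    · intro hx
      have hx' : (x.1 : R) + x.2 = 0 := congrArg Subtype.val hx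
      have hxI : (x.1 : R) ∈ I := by rw [eq_neg_of_add_eq_zero_left hx']; exact neg_mem x.2.2
      exact ⟨⟨x.1, x.1.2, hxI⟩, Prod.ext rfl (Subtype.ext (eq_neg_of_add_eq_zero_right hx').symm)⟩
    · rintro ⟨y, rfl⟩
      exact Subtype.ext (add_neg_cancel (y : R))
  have hpz : p.rTensor M ((LinearMap.inl R J I).rTensor M z) = 0 := by
    apply htop _ le_sup_right
    rw [map_zero, ← LinearMap.rTensor_comp_apply, ← LinearMap.rTensor_comp_apply,
      show ((J ⊔ I).subtype ∘ₗ p) ∘ₗ LinearMap.inl R J I = J.subtype from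
        LinearMap.ext fun x => by simp [p]]
    exact hz
  obtain ⟨w, hw⟩ := (rTensor_exact M hdp hp _).mp hpz
  have hw1 : (Submodule.inclusion (inf_le_left : J ⊓ I ≤ J)).rTensor M w = z := by
    have := congrArg ((LinearMap.fst R J I).rTensor M) hw
    rwa [← LinearMap.rTensor_comp_apply, ← LinearMap.rTensor_comp_apply, LinearMap.fst_comp_inl,
      LinearMap.rTensor_id_apply, LinearMap.fst_prod] at this
  have hw2 : (Submodule.inclusion (inf_le_right : J ⊓ I ≤ I)).rTensor M w = 0 := by
    have := congrArg ((LinearMap.snd R J I).rTensor M) hw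
    rwa [← LinearMap.rTensor_comp_apply, ← LinearMap.rTensor_comp_apply, LinearMap.snd_comp_inl,
      LinearMap.rTensor_zero, LinearMap.zero_apply, LinearMap.snd_prod, LinearMap.rTensor_neg,
      LinearMap.neg_apply, neg_eq_zero] at this
  suffices w = 0 by rw [← hw1, this, map_zero]
  -- the image in `B`
  let φ : ↥(J ⊓ I) →ₗ[R] B := Algebra.linearMap R B ∘ₗ (J ⊓ I).subtype
  have hφw : φ.rTensor M w = 0 := by
    rw [show φ = (Algebra.linearMap R B ∘ₗ I.subtype) ∘ₗ Submodule.inclusion inf_le_right from
      LinearMap.ext fun _ => rfl, LinearMap.rTensor_comp_apply, hw2, map_zero]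
  let L : Ideal B := Ideal.span (Set.range φ)
  let f : ↥(J ⊓ I) →ₗ[R] L := φ.codRestrict (L.restrictScalars R) fun x => Ideal.subset_span ⟨x, rfl⟩
  have hfw : f.rTensor M w = 0 := by
    apply injective_rTensor_algebra B M L.subtype L.injective_subtype
    rw [map_zero, ← LinearMap.rTensor_comp_apply,
      show (L.subtype.restrictScalars R) ∘ₗ f = φ from LinearMap.ext fun _ => rfl, hφw]
  have hKle : I * J ≤ J ⊓ I := le_inf Ideal.mul_le_right Ideal.mul_le_left
  let K : Submodule R ↥(J ⊓ I) := Submodule.comap (J ⊓ I).subtype (I * J)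
  let L' : Ideal B :=
    { carrier := algebraMap R B '' (I * J : Ideal R)
      add_mem' := by
        rintro _ _ ⟨a, ha, rfl⟩ ⟨b, hb, rfl⟩
        exact ⟨a + b, add_mem ha hb, map_add _ _ _⟩
      zero_mem' := ⟨0, zero_mem _, map_zero _⟩
      smul_mem' := by
        rintro b _ ⟨a, ha, rfl⟩
        exact h.stab_mul J a ha b }
  let P : Submodule R L := Submodule.comap (L.subtype.restrictScalars R) (L'.restrictScalars R)
  have hKP : K ≤ P.comap f := fun x hx => ⟨(x : R), hx, rfl⟩
  let fbar : (↥(J ⊓ I) ⧸ K) →ₗ[R] (L ⧸ P) := K.mapQ P f hKP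
  have hfbar : Injective fbar := by
    rw [injective_iff_map_eq_zero]
    intro q hq
    obtain ⟨x, rfl⟩ := Submodule.Quotient.mk_surjective _ q
    rw [Submodule.mapQ_apply, Submodule.Quotient.mk_eq_zero] at hq
    obtain ⟨a, ha, he⟩ := hq
    rw [Submodule.Quotient.mk_eq_zero]
    show (x : R) ∈ I * J
    rwa [h.inj' (hKle ha).2 x.2.2 he] at ha
  have hfbi : Injective (fbar.rTensor M) := by
    refine injective_rTensor_killed I M ?_ ?_ fbar hfbar
    · intro i hi q
      obtain ⟨x, rfl⟩ := Submodule.Quotient.mk_surjective _ q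
      rw [← Submodule.Quotient.mk_smul, Submodule.Quotient.mk_eq_zero]
      exact Ideal.mul_mem_mul hi x.2.1
    · intro i hi q
      obtain ⟨⟨l, hl⟩, rfl⟩ := Submodule.Quotient.mk_surjective _ q
      rw [← Submodule.Quotient.mk_smul, Submodule.Quotient.mk_eq_zero]
      show i • l ∈ L'
      have : L ≤ Submodule.comap (algebraMap R B i • (LinearMap.id : B →ₗ[B] B)) L' := by
        refine Ideal.span_le.mpr ?_
        rintro _ ⟨x, rfl⟩
        exact ⟨i * x.1, Ideal.mul_mem_mul hi x.2.1, map_mul _ _ _⟩
      rw [Algebra.smul_def]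
      exact this hl
  have hqw : K.mkQ.rTensor M w = 0 := by
    apply hfbi
    rw [map_zero, ← LinearMap.rTensor_comp_apply, show fbar ∘ₗ K.mkQ = P.mkQ ∘ₗ f from
      LinearMap.ext fun _ => rfl, LinearMap.rTensor_comp_apply, hfw, map_zero]
  obtain ⟨v, rfl⟩ := (rTensor_exact M (LinearMap.exact_subtype_mkQ K) K.mkQ_surjective w).mp hqw
  have hKinj : Injective ((φ ∘ₗ K.subtype).rTensor M) := by
    refine injective_rTensor_ideal B M _ (fun a b he => Subtype.ext (Subtype.ext (h.inj' a.1.2.2 b.1.2.2 he)))
      fun b a => ?_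
    obtain ⟨a', ha', he⟩ := h.stab_mul J a.1.1 a.2 b
    exact ⟨⟨⟨a', hKle ha'⟩, ha'⟩, he⟩
  rw [hKinj (((LinearMap.rTensor_comp_apply M φ K.subtype v).trans hφw).trans (map_zero _).symm), map_zero]

/-- Generators of the base change come from the module. -/
theorem exists_finset_generators (S : Type u) [CommRing S] [Algebra R S] [Module.Finite S (S ⊗[R] M)] :
    ∃ s : Finset M, Submodule.span S ((fun n => (1 : S) ⊗ₜ[R] n) '' (s : Set M)) = ⊤ := by
  classical
  obtain ⟨t, ht⟩ := Module.Finite.fg_top (R := S) (M := S ⊗[R] M)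
  have hS : ∀ z : S ⊗[R] M, ∃ s : Finset M,
      z ∈ Submodule.span S ((fun n => (1 : S) ⊗ₜ[R] n) '' (s : Set M)) := by
    intro z
    induction z using TensorProduct.induction_on with
    | zero => exact ⟨∅, zero_mem _⟩
    | tmul b n =>
      refine ⟨{n}, ?_⟩
      rw [show b ⊗ₜ[R] n = b • ((1 : S) ⊗ₜ[R] n) from by rw [smul_tmul', smul_eq_mul, mul_one]]
      exact Submodule.smul_mem _ _ (Submodule.subset_span ⟨n, by simp, rfl⟩)
    | add a b ha hb =>
      obtain ⟨s, hs⟩ := ha
      obtain ⟨s', hs'⟩ := hb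
      exact ⟨s ∪ s', add_mem
        (Submodule.span_mono (Set.image_mono (by simp)) hs)
        (Submodule.span_mono (Set.image_mono (by simp)) hs')⟩
  choose s hs using hS
  refine ⟨t.biUnion s, eq_top_iff.mpr ?_⟩
  rw [← ht, Submodule.span_le]
  exact fun z hz => Submodule.span_mono (Set.image_mono
    (fun n hn => Finset.mem_biUnion.mpr ⟨z, hz, hn⟩)) (hs z)

theorem subsingleton_quotient (S : Type u) [CommRing S] [Algebra R S] (N : Submodule R M) (t : Set M)
    (ht : t ⊆ N) (hS : Submodule.span S ((fun n => (1 : S) ⊗ₜ[R] n) '' t) = ⊤) :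
    Subsingleton (S ⊗[R] (M ⧸ N)) := by
  refine subsingleton_of_forall_eq 0 fun z => ?_
  obtain ⟨y, rfl⟩ := LinearMap.lTensor_surjective S N.mkQ_surjective z
  have : Submodule.span S ((fun n => (1 : S) ⊗ₜ[R] n) '' t) ≤ LinearMap.ker (N.mkQ.baseChange S) := by
    rw [Submodule.span_le]
    rintro _ ⟨n, hn, rfl⟩
    simp [(Submodule.Quotient.mk_eq_zero N).mpr (ht hn)]
  exact this (hS.ge Submodule.mem_top)

/-- Finite generation is detected on both sides. -/
theorem Cond.finite (h : Cond B I) [Module.Finite (R ⧸ I) ((R ⧸ I) ⊗[R] M)]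
    [Module.Finite B (B ⊗[R] M)] : Module.Finite R M := by
  classical
  obtain ⟨s, hs⟩ := exists_finset_generators (R := R) M (R ⧸ I)
  obtain ⟨t, ht⟩ := exists_finset_generators (R := R) M B
  let N : Submodule R M := Submodule.span R ((s ∪ t : Finset M) : Set M)
  haveI := subsingleton_quotient (R := R) M (R ⧸ I) N s
    (fun x hx => Submodule.subset_span (by simp [Finset.mem_coe.mp hx])) hs
  haveI := subsingleton_quotient M B N t
    (fun x hx => Submodule.subset_span (by simp [Finset.mem_coe.mp hx])) ht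
  haveI := h.subsingleton (M ⧸ N)
  exact ⟨⟨s ∪ t, Submodule.Quotient.subsingleton_iff.mp this⟩⟩

theorem finite_ker (S : Type u) [CommRing S] [Algebra R S] [Module.Flat R M]
    [Module.FinitePresentation S (S ⊗[R] M)] {n : ℕ} (π : (Fin n → R) →ₗ[R] M) (hπ : Surjective π) :
    Module.Finite S (S ⊗[R] LinearMap.ker π) := by
  let lk : S ⊗[R] LinearMap.ker π →ₗ[S] S ⊗[R] (Fin n → R) :=
    TensorProduct.AlgebraTensorModule.lTensor S S (LinearMap.ker π).subtype
  let lp : S ⊗[R] (Fin n → R) →ₗ[S] S ⊗[R] M := TensorProduct.AlgebraTensorModule.lTensor S S π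
  have hk : (LinearMap.ker lp).FG :=
    Module.FinitePresentation.fg_ker lp (LinearMap.lTensor_surjective _ hπ)
  have hex : Function.Exact lk lp := lTensor_exact S (LinearMap.exact_subtype_ker_map π) hπ
  have hinj : Injective lk :=
    LinearMap.lTensor_injective_of_exact_of_flat (P := M) π hπ (LinearMap.ker π).subtype
      (Submodule.injective_subtype _) (LinearMap.exact_subtype_ker_map π) S
  rw [hex.linearMap_ker_eq] at hk
  haveI : Module.Finite S (LinearMap.range lk) := Module.Finite.iff_fg.mpr hk
  exact Module.Finite.equiv (LinearEquiv.ofInjective lk hinj).symm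

/-- Finite projectivity is detected on both sides. -/
theorem Cond.projective (h : Cond B I) [Module.Finite (R ⧸ I) ((R ⧸ I) ⊗[R] M)]
    [Module.Projective (R ⧸ I) ((R ⧸ I) ⊗[R] M)] [Module.Finite B (B ⊗[R] M)]
    [Module.Projective B (B ⊗[R] M)] : Module.FinitePresentation R M ∧ Module.Projective R M := by
  haveI := h.finite M
  haveI := h.flat M
  haveI := Module.finitePresentation_of_projective (R ⧸ I) ((R ⧸ I) ⊗[R] M)
  haveI := Module.finitePresentation_of_projective B (B ⊗[R] M)
  obtain ⟨n, π, hπ⟩ := Module.Finite.exists_fin' R M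
  haveI := finite_ker (R := R) M (R ⧸ I) π hπ
  haveI := finite_ker M B π hπ
  haveI : Module.FinitePresentation R M :=
    Module.finitePresentation_of_surjective π hπ (Module.Finite.iff_fg.mp (Cond.finite (I := I) (B := B) (LinearMap.ker π) h))
  exact ⟨inferInstance, Module.Flat.projective_of_finitePresentation⟩

end Groth.L19.Pinch
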